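import Mathlib
import Groth.Agent.Lib.Helper19.QcPts2
import Groth.Agent.Lib.Helper19.StPtsQc
import Groth.Agent.Lib.Helper19.StPtsTop
import Groth.Agent.Lib.Helper19.StPtsInj
import Groth.Agent.Lib.Helper19.LocQCalc

/-!
# Monomorphisms of stacks stratified by lifts are quasi-compact (helper19)

A "piece" for a chart `v : (Sch/V) ⟶ 𝒳` and `f : 𝒴 ⟶ 𝒳` is a scheme `W` with Noetherian underlying space, a
morphism `ι : W ⟶ V` and a lift of `v ∘ ι` to `𝒴`.  If finitely many pieces cover the points of `V` (under `T ⟶ V`,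
`T` quasi-compact) that lift to `𝒴`, and `f` is a monomorphism, then `|T ×_𝒳 𝒴|` is quasi-compact.
-/

set_option autoImplicit false
set_option backward.isDefEq.respectTransparency false

universe w₃ v₃ w' v' w v u

open CategoryTheory CategoryTheory.Limits Functor AlgebraicGeometry Opposite

namespace Groth.Agent.Helper19.MonoQc

open FibCat AlgSt Stk Groth.Agent.Helper19.FibLib Groth.Agent.Helper19.StLib Groth.Agent.Helper19.DiagAlgSp
  Groth.Agent.Helper19.PshSt Groth.Agent.Helper19.AlgP Groth.Agent.Helper19.ProdAlg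
  Groth.Agent.Helper19.ImmLib Groth.Agent.Helper19.SpProps Groth.Agent.Helper19.ChartOver
  Groth.Agent.Helper16.AS Groth.Agent.Helper19.CancelLib Groth.Agent.Helper19.QcLib
  Groth.Agent.Helper19.SmLocLib Groth.Agent.Helper19.AlgStRep Groth.Agent.Helper19.PshLib
  Groth.Agent.Helper19.CompLib Groth.Agent.Helper19.StPts Groth.Agent.Helper19.QcMor
  Groth.Agent.Helper19.QcPts

variable {S : Scheme.{u}} {𝒳 𝒴 : AlgSt.Cat S}

/-- a lift of a chart over a scheme with Noetherian underlying space mapping to the chart. -/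
structure Piece (f : 𝒴 ⥤ᵇ 𝒳) (V : Over S) (v : overCat V ⥤ᵇ 𝒳) where
  W : Over S
  ι : W ⟶ V
  noeth : TopologicalSpace.NoetherianSpace ↥W.left
  y : overCat W ⥤ᵇ 𝒴
  θ : BasedFunctor.comp y f ≅ BasedFunctor.comp (overMap ι) v

/-- the points of a chart which lift to `𝒴`. -/
def liftLocus (f : 𝒴 ⥤ᵇ 𝒳) {V : Over S} (v : overCat V ⥤ᵇ 𝒳) : Set ↥V.left :=
  {p | Points.ofChart v p ∈ Set.range (Points.map f)}

theorem ofChart_overMap_id {T T' : Over S} (b : T' ⟶ T) (t : ↥T'.left) :
    Points.ofChart (overMap b) t = chartPt T (b.left t) := by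
  rw [chartPt_apply, ← ofChart_overMap b (BasedFunctor.id (overCat T)) t, BasedFunctor.comp_id]

section lemmaA

variable (h𝒳 : IsAlgStack Scheme.fppfPrecoverage 𝒳) (h𝒴 : IsAlgStack Scheme.fppfPrecoverage 𝒴)
  (f : 𝒴 ⥤ᵇ 𝒳) (hf : IsMono f) {V : Over S} (v : overCat V ⥤ᵇ 𝒳)

include h𝒳 h𝒴 hf in
/-- the image of the section given by a piece. -/
theorem exists_compact_range_of_piece (P : Piece f V v) (T : Over S) [CompactSpace ↥T.left] (a : T ⟶ V) :
    ∃ K : Set (Points (fp (BasedFunctor.comp (overMap a) v) f)), IsCompact K ∧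
      ∀ φ : Points (fp (BasedFunctor.comp (overMap a) v) f),
        (∃ t : ↥T.left, Points.map (fpFst _ f) φ = chartPt T t ∧ a.left t ∈ Set.range P.ι.left) → φ ∈ K := by
  haveI := P.noeth
  let T' : Over S := Over.mk (pullback.fst a.left P.ι.left ≫ T.hom)
  let b : T' ⟶ T := Over.homMk (pullback.fst a.left P.ι.left) rfl
  let c : T' ⟶ P.W := Over.homMk (pullback.snd a.left P.ι.left) (by
    change pullback.snd a.left P.ι.left ≫ P.W.hom = pullback.fst a.left P.ι.left ≫ T.hom
    rw [← Over.w P.ι, ← Over.w a, ← Category.assoc, ← Category.assoc, pullback.condition])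
  have hbc : b ≫ a = c ≫ P.ι := by
    ext
    exact pullback.condition
  haveI : CompactSpace ↥T'.left :=
    QuasiCompact.compactSpace_of_compactSpace (pullback.fst a.left P.ι.left)
  let e : BasedFunctor.comp (overMap b) (BasedFunctor.comp (overMap a) v) ≅
      BasedFunctor.comp (BasedFunctor.comp (overMap c) P.y) f :=
    eqToIso (BasedFunctor.comp_assoc _ _ _).symm ≪≫ whiskerRightIso (Groth.Agent.Helper19.LocQCore.overMapComp b a) v ≪≫
      eqToIso (congrArg (fun m => BasedFunctor.comp (overMap m) v) hbc) ≪≫ (whiskerRightIso (Groth.Agent.Helper19.LocQCore.overMapComp c P.ι) v).symm ≪≫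
      eqToIso (BasedFunctor.comp_assoc _ _ _) ≪≫ whiskerLeftIso (overMap c) P.θ.symm ≪≫
      eqToIso (BasedFunctor.comp_assoc _ _ _).symm
  let σ : overCat T' ⥤ᵇ fp (BasedFunctor.comp (overMap a) v) f :=
    fpLift (overMap b) (BasedFunctor.comp (overMap c) P.y) e
  have hfp : IsAlgStack Scheme.fppfPrecoverage (fp (BasedFunctor.comp (overMap a) v) f) :=
    isAlgStack_fp h𝒳.isStack h𝒳.diag (isAlgStack_overCat T) h𝒴 _ f
  have hinj : Function.Injective (Points.map (fpFst (BasedFunctor.comp (overMap a) v) f)) :=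
    injective_map_of_isMono hfp.isStack.1 (isFibGrpd_overCat T) _
      (repByAlgSpWith_fpFst f (BasedFunctor.comp (overMap a) v) hf)
  refine ⟨Set.range (Points.ofChart σ), isCompact_range (continuous_ofChart hfp σ), ?_⟩
  rintro φ ⟨t, hφ, w, hw⟩
  obtain ⟨t', ht'₁, ht'₂⟩ := Scheme.Pullback.exists_preimage_pullback t w hw.symm
  refine ⟨t', hinj ?_⟩
  rw [hφ, map_ofChart]
  change Points.ofChart (overMap b) t' = _
  rw [ofChart_overMap_id]
  exact congrArg _ ht'₁

include h𝒳 h𝒴 hf in
/-- **Lemma A**: finitely many pieces covering the liftable points under `T ⟶ V` make `|T ×_𝒳 𝒴|` quasi-compact. -/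
theorem compactSpace_points_fp_of_pieces (L : List (Piece f V v)) (T : Over S) [CompactSpace ↥T.left]
    (a : T ⟶ V)
    (hcover : ∀ t : ↥T.left, a.left t ∈ liftLocus f v → ∃ P ∈ L, a.left t ∈ Set.range P.ι.left) :
    CompactSpace (Points (fp (BasedFunctor.comp (overMap a) v) f)) := by
  have hfp : IsAlgStack Scheme.fppfPrecoverage (fp (BasedFunctor.comp (overMap a) v) f) :=
    isAlgStack_fp h𝒳.isStack h𝒳.diag (isAlgStack_overCat T) h𝒴 _ f
  choose K hKc hK using fun P : Piece f V v => exists_compact_range_of_piece h𝒳 h𝒴 f hf v P T a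
  have hU : IsCompact (⋃ P ∈ {P | P ∈ L}, K P) :=
    (List.finite_toSet L).isCompact_biUnion fun P _ => hKc P
  have huniv : (Set.univ : Set (Points (fp (BasedFunctor.comp (overMap a) v) f))) ⊆
      ⋃ P ∈ {P | P ∈ L}, K P := by
    intro φ _
    let t := (chartPt T).symm (Points.map (fpFst _ f) φ)
    have ht : Points.map (fpFst _ f) φ = chartPt T t := (Homeomorph.apply_symm_apply _ _).symm
    have hE : a.left t ∈ liftLocus f v := by
      refine ⟨Points.map (fpSnd _ f) φ, ?_⟩
      rw [← StPts.map_comp, ← congrFun (map_congr (fpIso _ f)) φ, StPts.map_comp, ht, ← ofChart_eq,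
        ofChart_overMap]
    obtain ⟨P, hPL, hP⟩ := hcover t hE
    exact Set.mem_biUnion hPL (hK P φ ⟨t, ht, hP⟩)
  exact ⟨hU.of_isClosed_subset isClosed_univ huniv⟩

end lemmaA

end Groth.Agent.Helper19.MonoQc
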