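import Mathlib
import Groth.Agent.Lib.Helper19.MonoQc.Piece
import Groth.Agent.Lib.Helper19.GerbMono.Lift

/-!
# Stratification of a Noetherian affine chart by lifts (helper19)
-/

set_option autoImplicit false
set_option backward.isDefEq.respectTransparency false

universe w₃ v₃ w' v' w v u

open CategoryTheory CategoryTheory.Limits Functor AlgebraicGeometry Opposite

namespace Groth.Agent.Helper19.MonoQc

open FibCat AlgSt Stk Groth.Agent.Helper19.FibLib Groth.Agent.Helper19.StLib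
  Groth.Agent.Helper19.ChartOver Groth.Agent.Helper19.StPts Groth.Agent.Helper19.QcPts

variable {S : Scheme.{u}} {𝒳 𝒴 : AlgSt.Cat S}

/-- the hypothesis of the statement: lifts at a dense set of points of an integral affine scheme give a lift over a
non-empty open. -/
def DenseLift (f : 𝒴 ⥤ᵇ 𝒳) : Prop :=
  ∀ (A : Type u) [CommRing A] [IsDomain A] (sA : Spec (CommRingCat.of A) ⟶ S)
      (a : FibCat.overCat (Over.mk sA) ⥤ᵇ 𝒳) (D : Set ↥(Spec (CommRingCat.of A))), Dense D →
      (∀ p ∈ D, ∃ yp : FibCat.overCat (Over.mk ((Spec (CommRingCat.of A)).fromSpecResidueField p ≫ sA)) ⥤ᵇ 𝒴,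
          Nonempty (BasedFunctor.comp yp f ≅ BasedFunctor.comp (AlgSt.overMap (Over.homMk ((Spec (CommRingCat.of A)).fromSpecResidueField p) rfl : Over.mk (((Spec (CommRingCat.of A)).fromSpecResidueField p) ≫ sA) ⟶ Over.mk sA)) a)) →
      ∃ U : (Spec (CommRingCat.of A)).Opens, (U : Set ↥(Spec (CommRingCat.of A))).Nonempty ∧
        ∃ yU : FibCat.overCat (Over.mk (U.ι ≫ sA)) ⥤ᵇ 𝒴,
          Nonempty (BasedFunctor.comp yU f ≅ BasedFunctor.comp (AlgSt.overMap (Over.homMk (U.ι) rfl : Over.mk ((U.ι) ≫ sA) ⟶ Over.mk sA)) a)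

theorem liftLocus_overMap (f : 𝒴 ⥤ᵇ 𝒳) {V V' : Over S} (j : V' ⟶ V) (v : overCat V ⥤ᵇ 𝒳) :
    liftLocus f (BasedFunctor.comp (overMap j) v) = j.left ⁻¹' liftLocus f v := by
  ext p
  simp only [liftLocus, Set.mem_setOf_eq, Set.mem_preimage, ofChart_overMap]

/-- a point of the lift locus of a chart lifts over its residue field. -/
theorem exists_lift_residueField (h𝒳 : IsAlgStack Scheme.fppfPrecoverage 𝒳)
    (h𝒴 : IsAlgStack Scheme.fppfPrecoverage 𝒴) (f : 𝒴 ⥤ᵇ 𝒳) (hf : IsMono f)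
    {X : Scheme.{u}} (sX : X ⟶ S) (a : overCat (Over.mk sX) ⥤ᵇ 𝒳) (p : ↥X)
    (hp : p ∈ liftLocus f a) :
    ∃ yp : overCat (Over.mk (X.fromSpecResidueField p ≫ sX)) ⥤ᵇ 𝒴,
      Nonempty (BasedFunctor.comp yp f ≅ BasedFunctor.comp (overMap (Over.homMk (X.fromSpecResidueField p) rfl :
        Over.mk (X.fromSpecResidueField p ≫ sX) ⟶ Over.mk sX)) a) := by
  obtain ⟨w', hw'⟩ := hp
  let P : Over S := Over.mk (X.fromSpecResidueField p ≫ sX)
  let m : P ⟶ Over.mk sX := Over.homMk (X.fromSpecResidueField p) rfl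
  let q₀ : ↥P.left := IsLocalRing.closedPoint (X.residueField p)
  have hq : m.left q₀ = p := Scheme.fromSpecResidueField_apply p q₀
  refine Groth.Agent.Helper19.GerbMono.exists_lift_field h𝒴.isStack.1 h𝒳.isStack.1 f hf
    (X.residueField p) (X.fromSpecResidueField p ≫ sX) (BasedFunctor.comp (overMap m) a)
    (chartPt P q₀) w' ?_
  rw [← ofChart_eq, ofChart_overMap, hq]
  exact hw'.symm

/-- **Lemma B**: a chart from the spectrum of a Noetherian ring is covered, on its lift locus, by finitely many pieces. -/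
theorem exists_pieces_of_noetherian (h𝒳 : IsAlgStack Scheme.fppfPrecoverage 𝒳)
    (h𝒴 : IsAlgStack Scheme.fppfPrecoverage 𝒴) (f : 𝒴 ⥤ᵇ 𝒳) (hf : IsMono f) (hc : DenseLift f)
    (R₀ : Type u) [CommRing R₀] [IsNoetherianRing R₀] (s₀ : Spec (CommRingCat.of R₀) ⟶ S)
    (v₀ : overCat (Over.mk s₀) ⥤ᵇ 𝒳) :
    ∃ L : List (Piece f (Over.mk s₀) v₀), ∀ p : ↥(Spec (CommRingCat.of R₀)),
      p ∈ liftLocus f v₀ → ∃ P ∈ L, p ∈ Set.range P.ι.left := by
  classical
  suffices H : ∀ C : TopologicalSpace.Closeds (PrimeSpectrum R₀),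
      ∃ L : List (Piece f (Over.mk s₀) v₀), ∀ p : PrimeSpectrum R₀, p ∈ (C : Set (PrimeSpectrum R₀)) →
        p ∈ liftLocus f v₀ → ∃ P ∈ L, p ∈ Set.range P.ι.left by
    obtain ⟨L, hL⟩ := H ⊤
    exact ⟨L, fun p hp => hL p trivial hp⟩
  intro C
  apply wellFounded_lt.induction C; clear C
  intro C IH
  rcases eq_or_ne C ⊥ with rfl | h₀
  · exact ⟨[], fun p hp => hp.elim⟩
  by_cases h₁ : IsPreirreducible (C : Set (PrimeSpectrum R₀))
  · -- the irreducible case
    have hirr : IsIrreducible (C : Set (PrimeSpectrum R₀)) :=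
      ⟨TopologicalSpace.Closeds.coe_nonempty.2 h₀, h₁⟩
    let 𝔭 : Ideal R₀ := PrimeSpectrum.vanishingIdeal (C : Set (PrimeSpectrum R₀))
    haveI h𝔭 : 𝔭.IsPrime := PrimeSpectrum.isIrreducible_iff_vanishingIdeal_isPrime.1 hirr
    have hzl : PrimeSpectrum.zeroLocus (𝔭 : Set R₀) = (C : Set (PrimeSpectrum R₀)) := by
      rw [PrimeSpectrum.zeroLocus_vanishingIdeal_eq_closure]
      exact C.isClosed.closure_eq
    let A : Type u := R₀ ⧸ 𝔭
    let q : R₀ →+* A := Ideal.Quotient.mk 𝔭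
    have hq : Function.Surjective q := Ideal.Quotient.mk_surjective
    let j : Spec (CommRingCat.of A) ⟶ Spec (CommRingCat.of R₀) := Spec.map (CommRingCat.ofHom q)
    have hjce : Topology.IsClosedEmbedding (j : ↥(Spec (CommRingCat.of A)) → ↥(Spec (CommRingCat.of R₀))) :=
      PrimeSpectrum.isClosedEmbedding_comap_of_surjective _ q hq
    have hjr : Set.range (j : ↥(Spec (CommRingCat.of A)) → ↥(Spec (CommRingCat.of R₀))) =
        (C : Set (PrimeSpectrum R₀)) := by
      rw [← hzl]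
      have := range_comap_of_surjective A q hq
      rw [Ideal.mk_ker] at this
      exact this
    let sA : Spec (CommRingCat.of A) ⟶ S := j ≫ s₀
    let jO : Over.mk sA ⟶ Over.mk s₀ := Over.homMk j rfl
    let a : overCat (Over.mk sA) ⥤ᵇ 𝒳 := BasedFunctor.comp (overMap jO) v₀
    let D : Set ↥(Spec (CommRingCat.of A)) := liftLocus f a
    have hD : D = (j : ↥(Spec (CommRingCat.of A)) → ↥(Spec (CommRingCat.of R₀))) ⁻¹' liftLocus f v₀ :=
      liftLocus_overMap f jO v₀
    by_cases hdense : Dense D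
    · obtain ⟨U, ⟨u₀, hu₀⟩, yU, ⟨θU⟩⟩ := hc A sA a D hdense
        (fun p hp => exists_lift_residueField h𝒳 h𝒴 f hf sA a p hp)
      let WU : Over S := Over.mk (U.ι ≫ sA)
      let iU : WU ⟶ Over.mk sA := Over.homMk U.ι rfl
      have hnoeth : TopologicalSpace.NoetherianSpace ↥WU.left := by
        haveI : IsNoetherianRing A := inferInstanceAs (IsNoetherianRing (R₀ ⧸ 𝔭))
        haveI : TopologicalSpace.NoetherianSpace ↥(Spec (CommRingCat.of A)) :=
          inferInstanceAs (TopologicalSpace.NoetherianSpace (PrimeSpectrum A))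
        exact (TopologicalSpace.noetherianSpace_set_iff (U : Set ↥(Spec (CommRingCat.of A)))).2
          fun t _ => TopologicalSpace.NoetherianSpace.isCompact t
      let P₀ : Piece f (Over.mk s₀) v₀ :=
        { W := WU
          ι := iU ≫ jO
          noeth := hnoeth
          y := yU
          θ := θU ≪≫ eqToIso (BasedFunctor.comp_assoc _ _ _).symm ≪≫
            whiskerRightIso (Groth.Agent.Helper19.LocQCore.overMapComp iU jO) v₀ }
      let C' : TopologicalSpace.Closeds (PrimeSpectrum R₀) :=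
        ⟨j '' ((U : Set ↥(Spec (CommRingCat.of A)))ᶜ), hjce.isClosedMap _ U.isOpen.isClosed_compl⟩
      have hC'lt : C' < C := by
        have hle : (C' : Set (PrimeSpectrum R₀)) ⊆ (C : Set (PrimeSpectrum R₀)) := by
          rintro _ ⟨x, -, rfl⟩
          rw [← hjr]
          exact ⟨x, rfl⟩
        refine lt_of_le_of_ne (SetLike.coe_subset_coe.1 hle) ?_
        · intro he
          have h1 : j u₀ ∈ (C' : Set (PrimeSpectrum R₀)) := by
            rw [he, ← hjr]
            exact ⟨u₀, rfl⟩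
          obtain ⟨x, hx, hxe⟩ := h1
          exact hx (hjce.injective hxe ▸ hu₀)
      obtain ⟨L', hL'⟩ := IH C' hC'lt
      refine ⟨P₀ :: L', fun p hpC hpE => ?_⟩
      rw [← hjr] at hpC
      obtain ⟨p', rfl⟩ := hpC
      by_cases hp'U : p' ∈ (U : Set ↥(Spec (CommRingCat.of A)))
      · refine ⟨P₀, List.mem_cons_self, ⟨⟨p', hp'U⟩, rfl⟩⟩
      · obtain ⟨P, hP, hPr⟩ := hL' (j p') ⟨p', hp'U, rfl⟩ hpE
        exact ⟨P, List.mem_cons_of_mem _ hP, hPr⟩
    · let C' : TopologicalSpace.Closeds (PrimeSpectrum R₀) :=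
        ⟨j '' closure D, hjce.isClosedMap _ isClosed_closure⟩
      have hC'lt : C' < C := by
        have hle : (C' : Set (PrimeSpectrum R₀)) ⊆ (C : Set (PrimeSpectrum R₀)) := by
          rintro _ ⟨x, -, rfl⟩
          rw [← hjr]
          exact ⟨x, rfl⟩
        refine lt_of_le_of_ne (SetLike.coe_subset_coe.1 hle) ?_
        · intro he
          apply hdense
          intro x
          have h1 : j x ∈ (C' : Set (PrimeSpectrum R₀)) := by
            rw [he, ← hjr]
            exact ⟨x, rfl⟩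
          obtain ⟨x', hx', hxe⟩ := h1
          exact hjce.injective hxe ▸ hx'
      obtain ⟨L', hL'⟩ := IH C' hC'lt
      refine ⟨L', fun p hpC hpE => ?_⟩
      rw [← hjr] at hpC
      obtain ⟨p', rfl⟩ := hpC
      have hp'D : p' ∈ D := by
        rw [hD]
        exact hpE
      exact hL' (j p') ⟨p', subset_closure hp'D, rfl⟩ hpE
  · -- the reducible case
    simp only [isPreirreducible_iff_isClosed_union_isClosed, not_forall, not_or] at h₁
    obtain ⟨z₁, z₂, hz₁, hz₂, h, hz₁', hz₂'⟩ := h₁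
    lift z₁ to TopologicalSpace.Closeds (PrimeSpectrum R₀) using hz₁
    lift z₂ to TopologicalSpace.Closeds (PrimeSpectrum R₀) using hz₂
    obtain ⟨L₁, hL₁⟩ := IH (C ⊓ z₁) (inf_lt_left.2 hz₁')
    obtain ⟨L₂, hL₂⟩ := IH (C ⊓ z₂) (inf_lt_left.2 hz₂')
    refine ⟨L₁ ++ L₂, fun p hpC hpE => ?_⟩
    rcases h hpC with hp1 | hp2
    · obtain ⟨P, hP, hPr⟩ := hL₁ p ⟨hpC, hp1⟩ hpE
      exact ⟨P, List.mem_append_left _ hP, hPr⟩
    · obtain ⟨P, hP, hPr⟩ := hL₂ p ⟨hpC, hp2⟩ hpE
      exact ⟨P, List.mem_append_right _ hP, hPr⟩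

end Groth.Agent.Helper19.MonoQc
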