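import Mathlib
import Groth.Agent.Lib.Helper19.MonoQc.Strat

/-!
# A monomorphism to a locally Noetherian stack with the dense-lift property is quasi-compact (helper19)
-/

set_option autoImplicit false
set_option backward.isDefEq.respectTransparency false

universe w₃ v₃ w' v' w v u

open CategoryTheory CategoryTheory.Limits Functor AlgebraicGeometry Opposite

namespace Groth.Agent.Helper19.MonoQc

open FibCat AlgSt Stk Groth.Agent.Helper19.FibLib Groth.Agent.Helper19.StLib Groth.Agent.Helper19.DiagAlgSp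
  Groth.Agent.Helper19.PshSt Groth.Agent.Helper19.AlgP Groth.Agent.Helper19.ProdAlg
  Groth.Agent.Helper19.ImmLib Groth.Agent.Helper19.SpProps Groth.Agent.Helper19.ChartOver
  Groth.Agent.Helper16.AS Groth.Agent.Helper19.CancelLib Groth.Agent.Helper19.QcLib
  Groth.Agent.Helper19.SmLocLib Groth.Agent.Helper19.AlgStRep Groth.Agent.Helper19.PshLib
  Groth.Agent.Helper19.CompLib Groth.Agent.Helper19.StPts Groth.Agent.Helper19.QcMor
  Groth.Agent.Helper19.QcPts

variable {S : Scheme.{u}} {𝒳 𝒴 : AlgSt.Cat S}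

/-- transport of a piece along a morphism of charts. -/
def Piece.comp {f : 𝒴 ⥤ᵇ 𝒳} {V V' : Over S} (j : V' ⟶ V) {v : overCat V ⥤ᵇ 𝒳}
    (P : Piece f V' (BasedFunctor.comp (overMap j) v)) : Piece f V v where
  W := P.W
  ι := P.ι ≫ j
  noeth := P.noeth
  y := P.y
  θ := P.θ ≪≫ eqToIso (BasedFunctor.comp_assoc _ _ _).symm ≪≫
    whiskerRightIso (Groth.Agent.Helper19.LocQCore.overMapComp P.ι j) v

/-- pieces covering the lift locus on a quasi-compact subset of a locally Noetherian chart. -/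
theorem exists_pieces_of_isCompact (h𝒳 : IsAlgStack Scheme.fppfPrecoverage 𝒳)
    (h𝒴 : IsAlgStack Scheme.fppfPrecoverage 𝒴) (f : 𝒴 ⥤ᵇ 𝒳) (hf : IsMono f) (hc : DenseLift f)
    {V : Over S} [IsLocallyNoetherian V.left] (v : overCat V ⥤ᵇ 𝒳) (K : Set ↥V.left) (hK : IsCompact K) :
    ∃ L : List (Piece f V v), ∀ p ∈ K, p ∈ liftLocus f v → ∃ P ∈ L, p ∈ Set.range P.ι.left := by
  refine hK.induction_on (p := fun K => ∃ L : List (Piece f V v), ∀ p ∈ K, p ∈ liftLocus f v →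
    ∃ P ∈ L, p ∈ Set.range P.ι.left) ?_ ?_ ?_ ?_
  · exact ⟨[], fun p hp => hp.elim⟩
  · rintro s t hst ⟨L, hL⟩
    exact ⟨L, fun p hp => hL p (hst hp)⟩
  · rintro s t ⟨L₁, hL₁⟩ ⟨L₂, hL₂⟩
    refine ⟨L₁ ++ L₂, fun p hp hpE => ?_⟩
    rcases hp with hp | hp
    · obtain ⟨P, hP, hPr⟩ := hL₁ p hp hpE
      exact ⟨P, List.mem_append_left _ hP, hPr⟩
    · obtain ⟨P, hP, hPr⟩ := hL₂ p hp hpE
      exact ⟨P, List.mem_append_right _ hP, hPr⟩
  · intro x _
    obtain ⟨_, ⟨N₀, hN, rfl⟩, hxN, -⟩ :=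
      (V.left.isBasis_affineOpens).exists_subset_of_mem_open (Set.mem_univ x) isOpen_univ
    let N : V.left.Opens := N₀
    refine ⟨(N : Set ↥V.left), mem_nhdsWithin_of_mem_nhds (N.isOpen.mem_nhds hxN), ?_⟩
    haveI : IsNoetherianRing Γ(V.left, N) := IsLocallyNoetherian.component_noetherian ⟨N, hN⟩
    let j₀ : Spec (CommRingCat.of Γ(V.left, N)) ⟶ V.left := hN.fromSpec
    let s₀ : Spec (CommRingCat.of Γ(V.left, N)) ⟶ S := j₀ ≫ V.hom
    let jO : Over.mk s₀ ⟶ V := Over.homMk j₀ rfl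
    obtain ⟨L₀, hL₀⟩ := exists_pieces_of_noetherian h𝒳 h𝒴 f hf hc Γ(V.left, N) s₀
      (BasedFunctor.comp (overMap jO) v)
    refine ⟨L₀.map (Piece.comp jO), fun p hpN hpE => ?_⟩
    have hr : Set.range (j₀ : ↥(Spec (CommRingCat.of Γ(V.left, N))) → ↥V.left) = (N : Set ↥V.left) :=
      hN.range_fromSpec
    rw [← hr] at hpN
    obtain ⟨p', rfl⟩ := hpN
    have hp'E : p' ∈ liftLocus f (BasedFunctor.comp (overMap jO) v) := by
      rw [liftLocus_overMap]
      exact hpE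
    obtain ⟨P, hP, w, hw⟩ := hL₀ p' hp'E
    refine ⟨Piece.comp jO P, List.mem_map_of_mem hP, w, ?_⟩
    change j₀ (P.ι.left w) = j₀ p'
    rw [hw]

/-- **S15357.** -/
theorem repByAlgSpWith_isQuasiCompactMor_of_denseLift (h𝒳 : IsAlgStack Scheme.fppfPrecoverage 𝒳)
    (h𝒴 : IsAlgStack Scheme.fppfPrecoverage 𝒴)
    (hnoeth : SmoothLocally (fun X => IsLocallyNoetherian X) 𝒳) (f : 𝒴 ⥤ᵇ 𝒳)
    (hrep : RepByAlgSp1 f) (ha : IsMono f) (hc : DenseLift f) :
    RepByAlgSpWith AlgSp.IsQuasiCompactMor f := by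
  refine repByAlgSpWith_of_isQuasiCompactMor h𝒴 h𝒳 f hrep ?_
  obtain ⟨V, v, hv₁, hv₂⟩ := h𝒳.atlas
  haveI hVN : IsLocallyNoetherian V.left := hnoeth V v hv₁
  refine isQuasiCompactMor_of_fpFst_cover h𝒴 h𝒳 (isAlgStack_overCat V) f v (fun 𝒵 h𝒵 g => ?_) ?_
  · have h𝒵' : IsAlgStack Scheme.fppfPrecoverage (fp g v) :=
      isAlgStack_fp h𝒳.isStack h𝒳.diag h𝒵 (isAlgStack_overCat V) g v
    exact ⟨isOpenMap_map_of_flat_lfp h𝒵' h𝒵.isStack.1 _
      (repByAlgSpWith_fpFst v g (repByAlgSpWith_flat_of_smooth v hv₁))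
      (repByAlgSpWith_fpFst v g (repByAlgSpWith_lfp_of_smooth v hv₁)),
      isSurjective_of_repByAlgSpWith h𝒵.isStack.1 _ (repByAlgSpWith_fpFst v g hv₂)⟩
  · intro 𝒵 h𝒵 hqc g
    obtain ⟨T, z, hT, hz₁, hz₂⟩ := hqc
    haveI : IsAffine T.left := hT
    obtain ⟨a, ⟨η⟩⟩ := exists_overMap_iso (BasedFunctor.comp z g)
    obtain ⟨L, hL⟩ := exists_pieces_of_isCompact h𝒳 h𝒴 f ha hc v (Set.range a.left)
      (isCompact_range a.left.continuous)
    haveI hcomp : CompactSpace (Points (fp (BasedFunctor.comp (overMap a) v) f)) :=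
      compactSpace_points_fp_of_pieces h𝒳 h𝒴 f ha v L T a (fun t ht => hL _ ⟨t, rfl⟩ ht)
    let π := fpFst v f
    have hP0 : IsAlgStack Scheme.fppfPrecoverage (fp v f) :=
      isAlgStack_fp h𝒳.isStack h𝒳.diag (isAlgStack_overCat V) h𝒴 v f
    have hfp : IsAlgStack Scheme.fppfPrecoverage (fp (BasedFunctor.comp (overMap a) v) f) :=
      isAlgStack_fp h𝒳.isStack h𝒳.diag (isAlgStack_overCat T) h𝒴 _ f
    have h2 : IsQuasiCompact (fp (BasedFunctor.comp (overMap a) v) f) :=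
      isQuasiCompact_of_compactSpace_points hfp
    have h3 : IsQuasiCompact (fp (overMap a) π) :=
      QcMor.isQuasiCompact_of_equiv (pasteL (overMap a) v f) (isEquivOver_pasteL (overMap a) v f) h2
    have h4 : IsQuasiCompact (fp (BasedFunctor.comp z g) π) :=
      QcMor.isQuasiCompact_of_equiv (fpCongrLeft π η.symm) (isEquivOver_fpCongrLeft π η.symm) h3
    have h5 : IsQuasiCompact (fp z (fpFst g π)) :=
      QcMor.isQuasiCompact_of_equiv (pasteL z g π) (isEquivOver_pasteL z g π) h4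
    have hP : IsAlgStack Scheme.fppfPrecoverage (fp g π) :=
      isAlgStack_fp (isAlgStack_overCat V).isStack (isAlgStack_overCat V).diag h𝒵 hP0 g π
    have hPP : IsAlgStack Scheme.fppfPrecoverage (fp z (fpFst g π)) :=
      isAlgStack_fp h𝒵.isStack h𝒵.diag (isAlgStack_overCat T) hP _ _
    exact isQuasiCompact_of_isSurjective hPP hP (fpSnd z (fpFst g π))
      (isSurjective_fpSnd hP.isStack.1 h𝒵.isStack.1 (isFibGrpd_overCat T) (fpFst g π) z
        (isSurjective_of_repByAlgSpWith h𝒵.isStack.1 z hz₂)) h5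

end Groth.Agent.Helper19.MonoQc
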